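import Groth.Agent.L25.Char.LocalGlobal
import Groth.Agent.L25.MultType.Subgroup

/-!
# Flat quotients of group algebras are of multiplicative type
-/

set_option autoImplicit false
universe u

open TensorProduct

namespace Groth.L25.MultSub

open Groth.L25.MultType

variable {R A : Type u} [CommRing R] [CommRing A] [HopfAlgebra R A] {N : Type u} [CommGroup N]

theorem isCocomm_of_surjective {C : Type u} [CommRing C] [HopfAlgebra R C] [Coalgebra.IsCocomm R C]
    (φ : C →ₐc[R] A) (hφ : Function.Surjective φ) : Coalgebra.IsCocomm R A := by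
  refine ⟨LinearMap.ext fun a => ?_⟩
  obtain ⟨c, rfl⟩ := hφ a
  rw [LinearMap.comp_apply, ← CoalgHomClass.map_comp_comul_apply φ c]
  conv_rhs => rw [← LinearMap.congr_fun (Coalgebra.IsCocomm.comm_comp_comul (R := R) (A := C)) c]
  change _ = TensorProduct.map _ _ (TensorProduct.comm R C C (Coalgebra.comul (R := R) c))
  exact (TensorProduct.map_comm _ _ _).symm

/-- the kernels of the power maps of a quotient of a group algebra are finite -/
theorem finite_torsion [Group.FG N] (φ : MonoidAlgebra R N →ₐc[R] A) (hφ : Function.Surjective φ)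
    {n : ℕ} (hn : 0 < n) : Module.Finite R (A ⧸ SGA3b.torsionIdeal R A n) := by
  classical
  let ψ : MonoidAlgebra R N →ₐ[R] A ⧸ SGA3b.torsionIdeal R A n :=
    (Ideal.Quotient.mkₐ R _).comp (φ : MonoidAlgebra R N →ₐ[R] A)
  have hψ : Function.Surjective ψ := Ideal.Quotient.mk_surjective.comp hφ
  have hpow : ∀ m : N, ψ (MonoidAlgebra.single m 1) ^ n = 1 := fun m => by
    have hg : IsGroupLikeElem R (φ (MonoidAlgebra.single m 1)) :=
      (MonoidAlgebra.isGroupLikeElem_single_one m).map φ
    have h := torsionIdeal_le_iff.1 (le_refl (SGA3b.torsionIdeal R A n)) (φ (MonoidAlgebra.single m 1))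
    rw [powConv_groupLike hg, hg.counit_eq_one, map_one] at h
    have h2 : Ideal.Quotient.mk (SGA3b.torsionIdeal R A n) (φ (MonoidAlgebra.single m 1) ^ n) = 1 := by
      rw [← map_one (Ideal.Quotient.mk (SGA3b.torsionIdeal R A n))]
      exact Ideal.Quotient.eq.2 h
    rw [map_pow] at h2
    exact h2
  have hint : Algebra.IsIntegral R (A ⧸ SGA3b.torsionIdeal R A n) := by
    refine ⟨fun z => ?_⟩
    obtain ⟨x, rfl⟩ := hψ z
    induction x using MonoidAlgebra.induction_linear with
    | zero => rw [map_zero]; exact isIntegral_zero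
    | add p q hp hq => rw [map_add]; exact hp.add hq
    | single m r =>
      have h1 : IsIntegral R (ψ (MonoidAlgebra.single m 1)) :=
        IsIntegral.of_pow hn (by rw [hpow]; exact isIntegral_one)
      rw [show (MonoidAlgebra.single m r : MonoidAlgebra R N) = r • MonoidAlgebra.single m 1 from by
        rw [MonoidAlgebra.smul_single, smul_eq_mul, _root_.mul_one], map_smul]
      exact h1.smul r
  haveI : Algebra.FiniteType R (A ⧸ SGA3b.torsionIdeal R A n) := Algebra.FiniteType.of_surjective ψ hψ
  exact Algebra.IsIntegral.finite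

/-- a flat quotient of a finitely generated group algebra, finitely presented, is of multiplicative type -/
theorem isMultType_of_surjective [Group.FG N] [Module.Flat R A] (hfp : Algebra.FinitePresentation R A)
    (φ : MonoidAlgebra R N →ₐc[R] A) (hφ : Function.Surjective φ) : SGA3b.IsMultType R A := by
  classical
  haveI := isCocomm_of_surjective φ hφ
  refine Char.isMultType_of_torsion_fibres hfp (fun p _ => ?_) fun n hn => finite_torsion φ hφ hn
  let k := p.ResidueField
  let f : MonoidAlgebra k N →ₐc[k] k ⊗[R] A :=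
    (Bialgebra.TensorProduct.map (BialgHom.id k k) φ).comp
      (scalarBialg R k N : MonoidAlgebra k N →ₐc[k] k ⊗[R] MonoidAlgebra R N)
  have hf : Function.Surjective f := by
    intro z
    induction z using TensorProduct.induction_on with
    | zero => exact ⟨0, map_zero f⟩
    | add a b ha hb =>
      obtain ⟨x, hx⟩ := ha
      obtain ⟨y, hy⟩ := hb
      exact ⟨x + y, by rw [map_add, hx, hy]⟩
    | tmul c a =>
      obtain ⟨x, rfl⟩ := hφ a
      obtain ⟨y, hy⟩ := EquivLike.surjective (scalarBialg R k N) (c ⊗ₜ[R] x)
      refine ⟨y, ?_⟩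
      simp only [f, BialgHom.comp_apply, BialgEquiv.coe_toBialgHom, hy]
      rfl
  have hd : SGA3b.IsDiag k (k ⊗[R] A) := isDiag_of_surjective f hf linearIndep_groupLikeVal
  exact isMultType_of_family (R := k) (A := k ⊗[R] A) (ι := PUnit.{u + 1}) (S := fun _ => k)
    inferInstance fun _ => isDiag_baseChange hd

end Groth.L25.MultSub
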