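import Groth.Agent.L25.MultSub.Alg
import Groth.Agent.L25.Bridge.Lift
import Groth.Agent.L25.MultTypeBC
import Groth.Agent.L25.Central
import Groth.Agent.L25.HomLocus.Main
import Groth.Agent.L25.Descent.Subgroup

/-!
# Flat closed subgroups of groups of multiplicative type
-/

set_option autoImplicit false
universe u

open CategoryTheory CategoryTheory.Limits MonoidalCategory CartesianMonoidalCategory
open AlgebraicGeometry TensorProduct

set_option backward.isDefEq.respectTransparency.types false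

noncomputable section

namespace Groth.L25.MultSub

/-- multiplicative type (finite type) is Zariski local on the base -/
theorem isMultTypeFT_of_local {S : Scheme.{u}} {H : Over S} [GrpObj H]
    (h : ∀ s : S, ∃ U : S.Opens, s ∈ U ∧ SGA3x.IsMultTypeFT (Red.bc U.ι H)) : SGA3x.IsMultTypeFT H := by
  classical
  choose U hU hM using h
  choose S' f hflat hsurj hqc hloc using hM
  have : ∀ s, Flat (f s) := hflat
  have : Flat (Sigma.desc fun s => f s ≫ (U s).ι) := IsZariskiLocalAtSource.sigmaDesc fun s => inferInstance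
  let F : (∐ fun s => S' s) ⟶ S := Sigma.desc fun s => f s ≫ (U s).ι
  have hF : ∀ s (w : (S' s : Scheme.{u})), F.base ((Sigma.ι (fun s => S' s) s).base w) = ((f s).base w).1 := by
    intro s w
    rw [← Scheme.Hom.comp_apply, Sigma.ι_desc]
    rfl
  refine ⟨_, F, inferInstance, ⟨fun x => ?_⟩, fun V hV => ?_, fun z => ?_⟩
  · obtain ⟨w, hw⟩ := (hsurj x).surj ⟨x, hU x⟩
    exact ⟨(Sigma.ι (fun s => S' s) x).base w, (hF x w).trans (congrArg Subtype.val hw)⟩
  · have key : ∀ x : V, ∃ (D : S.Opens) (E : (∐ fun s => S' s).Opens), x.1 ∈ D ∧ D ≤ V ∧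
        IsCompact (E : Set (∐ fun s => S' s : Scheme.{u})) ∧
        F.base '' (E : Set (∐ fun s => S' s : Scheme.{u})) = (D : Set S) := by
      intro x
      obtain ⟨_, ⟨D, hD, rfl⟩, hxD, hDle⟩ := S.isBasis_affineOpens.exists_subset_of_mem_open
        (show x.1 ∈ V ⊓ U x.1 from ⟨x.2, hU x.1⟩) (V ⊓ U x.1).2
      let D' : (U x.1).toScheme.Opens := (U x.1).ι ⁻¹ᵁ D
      have hD' : (U x.1).ι ''ᵁ D' = D := by
        rw [Scheme.Hom.image_preimage_eq_opensRange_inf, Scheme.Opens.opensRange_ι]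
        exact inf_eq_right.2 fun y hy => (hDle hy).2
      have hD'aff : IsAffineOpen D' := by
        rw [← Scheme.Hom.isAffineOpen_iff_of_isOpenImmersion (U x.1).ι, hD']
        exact hD
      obtain ⟨W, hW, hWD⟩ := hqc x.1 D' hD'aff
      refine ⟨D, Sigma.ι (fun s => S' s) x.1 ''ᵁ W, hxD, fun y hy => (hDle hy).1,
        hW.image (Sigma.ι (fun s => S' s) x.1).continuous, ?_⟩
      rw [← hD']
      ext y
      constructor
      · rintro ⟨_, ⟨w, hw, rfl⟩, rfl⟩
        exact ⟨(f x.1).base w, hWD.le ⟨w, hw, rfl⟩, (hF x.1 w).symm⟩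
      · rintro ⟨y', hy', rfl⟩
        obtain ⟨w, hw, rfl⟩ := hWD.ge hy'
        exact ⟨_, ⟨w, hw, rfl⟩, hF x.1 w⟩
    choose D E hxD hDV hEc hEimg using key
    obtain ⟨t, ht⟩ := hV.isCompact.elim_finite_subcover (fun x : V => (D x : Set S)) (fun x => (D x).2)
      (fun y hy => Set.mem_iUnion.2 ⟨⟨y, hy⟩, hxD ⟨y, hy⟩⟩)
    refine ⟨⨆ x ∈ t, E x, ?_, ?_⟩
    · simp only [TopologicalSpace.Opens.coe_iSup]
      exact t.isCompact_biUnion fun x _ => hEc x
    · simp only [TopologicalSpace.Opens.coe_iSup, Set.image_iUnion, hEimg]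
      exact (Set.iUnion₂_subset fun x _ => hDV x).antisymm ht
  · obtain ⟨s, w, hw⟩ := (sigmaOpenCover fun s => S' s).exists_eq z
    obtain ⟨W, hwW, M, inst, hfg, ⟨e⟩⟩ := hloc s w
    letI := inst
    let ι' := W.ι ≫ Sigma.ι (fun s => S' s) s
    refine ⟨ι'.opensRange, ⟨⟨w, hwW⟩, hw⟩, M, inst, hfg, ⟨?_⟩⟩
    refine TrivLocus.restrictIso ((W.ι ≫ f s) ≫ (U s).ι) ι'.isoOpensRange.inv
      ((Grp.mkIso' (ActBC.bcCompIso (W.ι ≫ f s) (U s).ι H rfl)).symm ≪≫ e) ?_
    rw [show (W.ι ≫ f s) ≫ (U s).ι = ι' ≫ F from by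
      simp only [ι', F, Category.assoc, Sigma.ι_desc], Scheme.Hom.isoOpensRange_inv_comp_assoc]

variable {R : Type u} [CommRing R]

/-- flat closed subgroups of diagonalisable groups over an affine base -/
theorem isMultTypeFT_of_diag (H : Over (Spec (CommRingCat.of R))) [GrpObj H] (M : Type) [AddCommGroup M]
    (hM : AddGroup.FG M) (i : H ⟶ Red.DS (Spec (CommRingCat.of R)) M) [IsMonHom i]
    (hi : IsClosedImmersion i.left) (hfl : Flat H.hom) (hfp : LocallyOfFinitePresentation H.hom) :
    SGA3x.IsMultTypeFT H := by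
  let eD := Bridge.dsIso R M
  let N := ULift.{u} (Multiplicative M)
  let φN : MonoidAlgebra R N ≃ₐc[R] MonoidAlgebra R (Multiplicative M) :=
    MonoidAlgebra.domCongrBialgEquiv _ _ MulEquiv.ulift
  have : AddGroup.FG M := hM
  haveI : Group.FG N := Group.fg_of_surjective (f := (MulEquiv.ulift (α := Multiplicative M)).symm.toMonoidHom)
    (MulEquiv.ulift (α := Multiplicative M)).symm.surjective
  have hD : IsAffine (Red.DS (Spec (CommRingCat.of R)) M).left := by
    have : IsIso eD.hom.hom.hom.left := inferInstanceAs (IsIso ((Grp.forget _ ⋙ Over.forget _).map eD.hom))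
    have : IsAffine ((Bridge.P R (MonoidAlgebra R (Multiplicative M))).left) :=
      inferInstanceAs (IsAffine (Spec (CommRingCat.of (MonoidAlgebra R (Multiplicative M)))))
    exact @IsAffine.of_isIso _ _ eD.hom.hom.hom.left _ this
  haveI : IsAffine H.left := isAffine_of_isAffineHom i.left
  obtain ⟨A, _, _, ⟨e⟩⟩ := Bridge.exists_hopf H
  let g : Grp.mk (Bridge.P R A) ⟶ Grp.mk (Bridge.P R (MonoidAlgebra R (Multiplicative M))) :=
    e.inv ≫ Grp.ofHom i ≫ eD.hom
  let φ' : MonoidAlgebra R (Multiplicative M) →ₐc[R] A :=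
    ((hopfSpec.fullyFaithful (R := CommRingCat.of R)).preimage
      (X := Opposite.op (CommHopfAlgCat.of R A))
      (Y := Opposite.op (CommHopfAlgCat.of R (MonoidAlgebra R (Multiplicative M)))) g).unop.hom
  have hg : g.hom.hom.left = Spec.map (CommRingCat.ofHom (φ' : MonoidAlgebra R (Multiplicative M) →ₐ[R] A).toRingHom) := by
    have h := (hopfSpec.fullyFaithful (R := CommRingCat.of R)).map_preimage
      (X := Opposite.op (CommHopfAlgCat.of R A))
      (Y := Opposite.op (CommHopfAlgCat.of R (MonoidAlgebra R (Multiplicative M)))) g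
    exact (congrArg (fun q => q.hom.hom.left) h).symm
  have : IsIso e.inv.hom.hom.left := inferInstanceAs (IsIso ((Grp.forget _ ⋙ Over.forget _).map e.inv))
  have : IsIso eD.hom.hom.hom.left := inferInstanceAs (IsIso ((Grp.forget _ ⋙ Over.forget _).map eD.hom))
  have hcl : IsClosedImmersion g.hom.hom.left := by
    show IsClosedImmersion (e.inv.hom.hom.left ≫ i.left ≫ eD.hom.hom.hom.left)
    infer_instance
  rw [hg] at hcl
  have hφ' : Function.Surjective φ' := by
    let ψ := CommRingCat.ofHom (φ' : MonoidAlgebra R (Multiplicative M) →ₐ[R] A).toRingHom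
    have : IsClosedImmersion (Spec.map ψ) := hcl
    have h := (IsClosedImmersion.isAffine_surjective_of_isAffine (Spec.map ψ)).2
    intro a
    obtain ⟨x, hx⟩ := h ((Scheme.ΓSpecIso (CommRingCat.of A)).inv a)
    refine ⟨(Scheme.ΓSpecIso _).hom x, ?_⟩
    have hn := congrArg (fun q => q.hom x) (Scheme.ΓSpecIso_naturality
      (CommRingCat.ofHom (φ' : MonoidAlgebra R (Multiplicative M) →ₐ[R] A).toRingHom))
    simp only [CommRingCat.hom_comp, RingHom.comp_apply] at hn
    refine hn.symm.trans ?_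
    show (Scheme.ΓSpecIso (CommRingCat.of A)).hom.hom _ = a
    rw [show (Spec.map (CommRingCat.ofHom (φ' : MonoidAlgebra R (Multiplicative M) →ₐ[R] A).toRingHom)).appTop.hom x =
      (Scheme.ΓSpecIso (CommRingCat.of A)).inv a from hx]
    exact Iso.inv_hom_id_apply (Scheme.ΓSpecIso (CommRingCat.of A)) a
  have : IsIso e.hom.hom.hom.left := inferInstanceAs (IsIso ((Grp.forget _ ⋙ Over.forget _).map e.hom))
  have hP : (Bridge.P R A).hom = inv e.hom.hom.hom.left ≫ H.hom := by
    rw [← Over.w e.hom.hom.hom, IsIso.inv_hom_id_assoc]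
  have hfl' : Flat (Bridge.P R A).hom := by rw [hP]; infer_instance
  have hfp' : LocallyOfFinitePresentation (Bridge.P R A).hom := by rw [hP]; infer_instance
  haveI : Module.Flat R A := by
    change Flat (Spec.map (CommRingCat.ofHom (algebraMap R A))) at hfl'
    rw [HasRingHomProperty.Spec_iff (P := @Flat)] at hfl'
    exact RingHom.flat_algebraMap_iff.1 hfl'
  have hfpA : Algebra.FinitePresentation R A := by
    change LocallyOfFinitePresentation (Spec.map (CommRingCat.ofHom (algebraMap R A))) at hfp'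
    rw [HasRingHomProperty.Spec_iff (P := @LocallyOfFinitePresentation), CommRingCat.hom_ofHom,
      RingHom.finitePresentation_algebraMap] at hfp'
    exact hfp'
  have hA := isMultType_of_surjective hfpA (φ'.comp (φN : MonoidAlgebra R N →ₐc[R] MonoidAlgebra R (Multiplicative M)))
    (hφ'.comp (EquivLike.surjective φN))
  haveI : Algebra.FiniteType R A := inferInstance
  exact Bridge.isMultTypeFT_of_iso e.symm (Bridge.isMultTypeFT_of_isMultType hA)

/-- flat, finitely presented closed subgroups of groups of multiplicative type are of multiplicative type -/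
theorem isMultTypeFT_of_closed {S : Scheme.{u}} (H H' : Over S) [GrpObj H] [GrpObj H']
    (hH' : SGA3x.IsMultTypeFT H') (i : H ⟶ H') [IsMonHom i] (hi : IsClosedImmersion i.left)
    (hfl : Flat H.hom) (hfp : LocallyOfFinitePresentation H.hom) : SGA3x.IsMultTypeFT H := by
  obtain ⟨S', f, hflat, hsurj, hqc, hloc⟩ := hH'
  have : IsMonHom (Iso.refl (Red.bc f H)).hom := inferInstanceAs (IsMonHom (𝟙 (Red.bc f H)))
  refine Descent.isMultTypeFT_descend (π := f) (H' := Red.bc f H) hqc (Iso.refl _) (isMultTypeFT_of_local fun z => ?_)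
  obtain ⟨U, hzU, M, inst, hfg, ⟨e⟩⟩ := hloc z
  letI := inst
  obtain ⟨_, ⟨V, hV, rfl⟩, hzV, hVU⟩ := S'.isBasis_affineOpens.exists_subset_of_mem_open hzU U.2
  refine ⟨V, hzV, ?_⟩
  let k : Spec Γ(S', V) ⟶ S := hV.fromSpec ≫ f
  have hr : Set.range hV.fromSpec ⊆ Set.range U.ι := by
    rw [Scheme.Opens.range_ι, hV.range_fromSpec]
    exact hVU
  let e' := TrivLocus.restrictIso (U.ι ≫ f) (IsOpenImmersion.lift _ _ hr) e
    (show IsOpenImmersion.lift _ _ hr ≫ U.ι ≫ f = k by rw [IsOpenImmersion.lift_fac_assoc])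
  have hi' : IsClosedImmersion ((Over.pullback k).map i).left :=
    MorphismProperty.of_isPullback (HomLocus.isPullback_map i k) hi
  have : IsIso e'.hom.hom.hom.left := inferInstanceAs (IsIso ((Grp.forget _ ⋙ Over.forget _).map e'.hom))
  have hk : SGA3x.IsMultTypeFT (Red.bc k H) := by
    refine isMultTypeFT_of_diag (R := Γ(S', V)) (Red.bc k H) M hfg ((Over.pullback k).map i ≫ e'.hom.hom.hom) ?_
      (MorphismProperty.pullback_snd _ _ hfl) (MorphismProperty.pullback_snd _ _ hfp)
    rw [Over.comp_left]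
    infer_instance
  have h2 := MultTypeBC.isMultTypeFT_bc hk hV.isoSpec.hom
  exact Bridge.isMultTypeFT_of_iso
    (Grp.mkIso' (ActBC.bcCompIso hV.isoSpec.hom k H rfl) ≪≫
      eqToIso (by rw [hV.isoSpec_hom_fromSpec_assoc]) ≪≫ (Grp.mkIso' (ActBC.bcCompIso (Scheme.Opens.ι V) f H rfl)).symm) h2

end Groth.L25.MultSub
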